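/-
A non-abelian simple normal subgroup with trivial centraliser is the generalised Fitting subgroup.

* `genFitting_eq_of_simple`
-/
import Cfsg.Agent.Lib.Components.Basic
import Cfsg.Agent.Lib.Components.GenFitting

set_option autoImplicit false

namespace Cfsg.Agent.ONanLines

open Subgroup

variable {G : Type*} [Group G] [Finite G]

theorem genFitting_eq_of_simple (N : Subgroup G) [N.Normal] [IsSimpleGroup ↥N]
    (hna : ¬IsMulCommutative ↥N) (hC : centralizer (N : Set G) = ⊥) :
    Cfsg.generalizedFittingSubgroup G = N := by
  have hZ : center ↥N = ⊥ := (Subgroup.Normal.eq_bot_or_eq_top inferInstance).resolve_right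
    fun h => hna (Subgroup.center_eq_top_iff.mp h)
  have hq : Cfsg.IsQuasisimple ↥N := by
    refine ⟨⟨?_⟩, ?_⟩
    · rcases (Subgroup.Normal.eq_bot_or_eq_top (inferInstance : (commutator ↥N).Normal)) with h | h
      · exact absurd ((_root_.commutator_eq_bot_iff ↥N).mp h) hna
      · exact h
    · exact ((QuotientGroup.quotientMulEquivOfEq hZ).trans QuotientGroup.quotientBot).isSimpleGroup
  have hcomp : Cfsg.IsComponent N := ⟨Normal.isSubnormal (inferInstance : N.Normal), hq⟩
  have hF : Cfsg.fittingSubgroup G = ⊥ := by
    set Fi := Cfsg.fittingSubgroup G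
    haveI : Group.IsNilpotent ↥Fi := Cores.isNilpotent_of_le_fittingSubgroup le_rfl
    rcases Subgroup.Normal.eq_bot_or_eq_top (inferInstance : (Fi.subgroupOf N).Normal) with h | h
    · rw [subgroupOf_eq_bot] at h
      rw [eq_bot_iff, ← hC]
      intro z hz w hw
      exact (commute_of_normal_of_disjoint N Fi inferInstance inferInstance h.symm w z hw hz).eq
    · rw [subgroupOf_eq_top] at h
      exact absurd h (Components.IsComponent.not_le_of_isSolvable hcomp inferInstance)
  rw [Cfsg.generalizedFittingSubgroup, hF, sup_bot_eq]
  refine le_antisymm (Components.layer_le fun K hK => ?_) (Components.IsComponent.le_layer hcomp)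
  rcases Components.IsComponent.le_or_commutes hK (Normal.isSubnormal (inferInstance : N.Normal))
    with h | h
  · exact h
  · rw [commutator_eq_bot_iff_le_centralizer, hC, le_bot_iff] at h
    exact absurd h (Components.IsComponent.ne_bot hK)

end Cfsg.Agent.ONanLines
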