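/-
Conjugate families of abelian subgroups of point stabilisers in a doubly transitive group, one of
which is not semiregular on the remaining points.

* `Fam.inf_eq_bot` : two members of the family meet trivially
* `Fam.comm_A` : the two-point subgroups of a pair commute
* `Fam.delta_mem` : commutators of a two-point subgroup with the opposite member fix both points
* `Fam.fix_orbit` : a two-point subgroup fixes the orbit of the first point under the second member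
-/
import Cfsg.Agent.EqLemmas

set_option autoImplicit false

namespace Cfsg.Agent.ONanLines

open MulAction Subgroup

/-- An elementary abelian subgroup of each point stabiliser, permuted by conjugation. -/
structure Fam (G Ω : Type*) [Group G] [MulAction G Ω] where
  two : IsMultiplyPretransitive G Ω 2
  faithful : ∀ g : G, (∀ x : Ω, g • x = x) → g = 1
  M : Ω → Subgroup G
  fix : ∀ x, ∀ u ∈ M x, u • x = x
  conj : ∀ (g : G) x, ∀ u ∈ M x, g * u * g⁻¹ ∈ M (g • x)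
  comm : ∀ x, ∀ u ∈ M x, ∀ v ∈ M x, u * v = v * u
  r : ℕ
  prime : r.Prime
  pow : ∀ x, ∀ u ∈ M x, u ^ r = 1
  nsr : ∃ x y, x ≠ y ∧ ∃ u ∈ M x, u ≠ 1 ∧ u • y = y

namespace Fam

variable {G Ω : Type*} [Group G] [MulAction G Ω] (F : Fam G Ω)

/-- The elements of `M x` fixing `y`. -/
def A (x y : Ω) : Subgroup G := F.M x ⊓ stabilizer G y

theorem mem_A {x y : Ω} {g : G} : g ∈ F.A x y ↔ g ∈ F.M x ∧ g • y = y := Iff.rfl

theorem A_le (x y : Ω) : F.A x y ≤ F.M x := inf_le_left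

theorem conj_iff (g : G) (x : Ω) (u : G) : g * u * g⁻¹ ∈ F.M (g • x) ↔ u ∈ F.M x := by
  refine ⟨fun h => ?_, F.conj g x u⟩
  have h' := F.conj g⁻¹ _ _ h
  rwa [inv_smul_smul, inv_inv, show g⁻¹ * (g * u * g⁻¹) * g = u by group] at h'

theorem M_smul (g : G) (x : Ω) : F.M (g • x) = (F.M x).map (MulAut.conj g).toMonoidHom := by
  ext u
  have h := F.conj_iff g x (g⁻¹ * u * g)
  rw [show g * (g⁻¹ * u * g) * g⁻¹ = u by group] at h
  constructor
  · exact fun hu => ⟨g⁻¹ * u * g, h.mp hu, by simp [MulAut.conj_apply]; group⟩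
  · rintro ⟨v, hv, rfl⟩
    exact F.conj g x v hv

theorem A_smul (g : G) (x y : Ω) :
    F.A (g • x) (g • y) = (F.A x y).map (MulAut.conj g).toMonoidHom := by
  ext u
  constructor
  · rintro ⟨hu, hy⟩
    rw [F.M_smul] at hu
    obtain ⟨v, hv, rfl⟩ := hu
    refine ⟨v, ⟨hv, ?_⟩, rfl⟩
    simp only [SetLike.mem_coe] at hy ⊢
    simpa [mul_smul] using hy
  · rintro ⟨v, hv, rfl⟩
    refine ⟨F.conj g x v hv.1, ?_⟩
    have hvy : v • y = y := hv.2
    simp [mul_smul, hvy]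

theorem card_map_conj (H : Subgroup G) (g : G) :
    Nat.card ↥(H.map (MulAut.conj g).toMonoidHom) = Nat.card ↥H :=
  Subgroup.card_map_of_injective fun _ _ h => (MulAut.conj g).injective h

theorem card_M_eq (x x' : Ω) : Nat.card ↥(F.M x) = Nat.card ↥(F.M x') := by
  have := F.two
  haveI : IsPretransitive G Ω := isPretransitive_of_is_two_pretransitive
  obtain ⟨g, rfl⟩ := exists_smul_eq G x x'
  rw [F.M_smul, card_map_conj]

theorem card_A_eq {x y x' y' : Ω} (h : x ≠ y) (h' : x' ≠ y') :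
    Nat.card ↥(F.A x y) = Nat.card ↥(F.A x' y') := by
  obtain ⟨g, rfl, rfl⟩ := is_two_pretransitive_iff.mp F.two h h'
  rw [F.A_smul, card_map_conj]

theorem card_inf_eq {x y x' y' : Ω} (h : x ≠ y) (h' : x' ≠ y') :
    Nat.card ↥(F.M x ⊓ F.M y) = Nat.card ↥(F.M x' ⊓ F.M y') := by
  obtain ⟨g, rfl, rfl⟩ := is_two_pretransitive_iff.mp F.two h h'
  rw [F.M_smul, F.M_smul,
    ← Subgroup.map_inf_eq _ _ _ (fun _ _ h => (MulAut.conj g).injective h), card_map_conj]

theorem mem_M_smul_of_comm {x : Ω} {m g : G} (hm : m ∈ F.M x) (h : g * m = m * g) :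
    m ∈ F.M (g • x) := by
  have := F.conj g x m hm
  rwa [h, mul_inv_cancel_right] at this

variable [Finite G]

/-- Two members of the family meet trivially. -/
theorem inf_eq_bot {x y : Ω} (hxy : x ≠ y) : F.M x ⊓ F.M y = ⊥ := by
  rw [Subgroup.eq_bot_iff_forall]
  intro d hd
  refine F.faithful d fun v => ?_
  by_cases hv : F.M x ⊓ F.M y ≤ F.M v
  · exact F.fix v d (hv hd)
  by_contra hdv
  have hxv : x ≠ v := fun e => hv (e ▸ inf_le_left)
  have hyv : y ≠ v := fun e => hv (e ▸ inf_le_right)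
  have key : ∀ w, w ≠ v → d ∈ F.M w → F.M w ⊓ F.M v = F.M v ⊓ F.M (d • v) := by
    intro w hwv hdw
    refine Subgroup.eq_of_le_of_card_ge (fun e he => ⟨he.2, ?_⟩)
      (F.card_inf_eq (Ne.symm hdv) hwv).le
    exact F.mem_M_smul_of_comm he.2 (F.comm w d hdw e he.1)
  have h1 := key x hxv hd.1
  have h2 := key y hyv hd.2
  have h3 : F.M x ⊓ F.M v ≤ F.M x ⊓ F.M y :=
    le_inf inf_le_left (by rw [h1, ← h2]; exact inf_le_left)
  have h4 := Subgroup.eq_of_le_of_card_ge h3 (F.card_inf_eq hxy hxv).le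
  exact hv (h4 ▸ inf_le_right)

/-- A centraliser of a non-trivial element of `M x` fixes `x`. -/
theorem fix_of_comm {x : Ω} {m g : G} (hm : m ∈ F.M x) (hm1 : m ≠ 1) (h : g * m = m * g) :
    g • x = x := by
  by_contra hgx
  have : m ∈ F.M (g • x) ⊓ F.M x := ⟨F.mem_M_smul_of_comm hm h, hm⟩
  rw [F.inf_eq_bot hgx] at this
  exact hm1 this

theorem comm_A {x y : Ω} (hxy : x ≠ y) {a b : G} (ha : a ∈ F.A x y) (hb : b ∈ F.A y x) :
    a * b = b * a := by
  rw [mem_A] at ha hb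
  have h1 : a * b * a⁻¹ * b⁻¹ ∈ F.M x := by
    have h := mul_mem ha.1 (F.conj b x _ (inv_mem ha.1) |> fun h => hb.2 ▸ h)
    simpa [mul_assoc] using h
  have h2 : a * b * a⁻¹ * b⁻¹ ∈ F.M y := by
    have h := F.conj a y b hb.1
    rw [ha.2] at h
    exact mul_mem h (inv_mem hb.1)
  have h : a * b * a⁻¹ * b⁻¹ ∈ F.M x ⊓ F.M y := ⟨h1, h2⟩
  rw [F.inf_eq_bot hxy, Subgroup.mem_bot] at h
  calc a * b = a * b * a⁻¹ * b⁻¹ * (b * a) := by group
    _ = b * a := by rw [h, one_mul]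

theorem cent_A {x y : Ω} {a v : G} (ha : a ∈ F.A x y) (ha1 : a ≠ 1) (hv : v ∈ F.M y)
    (h : a * v = v * a) : v ∈ F.A y x :=
  F.mem_A.mpr ⟨hv, F.fix_of_comm (F.A_le x y ha) ha1 h.symm⟩

omit [Finite G] in
theorem exists_A_ne_one {x y : Ω} (hxy : x ≠ y) : ∃ a ∈ F.A x y, a ≠ 1 := by
  obtain ⟨x₀, y₀, h0, u, hu, hu1, huy⟩ := F.nsr
  by_contra hcon
  push Not at hcon
  have hbot : F.A x y = ⊥ := (Subgroup.eq_bot_iff_forall _).mpr hcon
  have h := F.card_A_eq h0 hxy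
  rw [hbot, Subgroup.card_bot, Subgroup.card_eq_one] at h
  exact hu1 ((Subgroup.eq_bot_iff_forall _).mp h u ⟨hu, huy⟩)

/-- The group `B` fixing `x` and `w` centralises a non-trivial element of `A x w`. -/
theorem exists_fixed {x w : Ω} (hxw : x ≠ w) (B : Subgroup G) (hB : ∀ b ∈ B, b ^ F.r = 1)
    (hBx : ∀ b ∈ B, b • x = x) (hBw : ∀ b ∈ B, b • w = w) :
    ∃ c ∈ F.A x w, c ≠ 1 ∧ ∀ b ∈ B, b * c = c * b := by
  haveI := Fact.mk F.prime
  have hpres : ∀ b : ↥B, ∀ c : ↥(F.A x w), (b : G) * c * (b : G)⁻¹ ∈ F.A x w := by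
    intro b c
    have h := F.A_smul (b : G) x w
    rw [hBx b b.2, hBw b b.2] at h
    have h' : (b : G) * c * (b : G)⁻¹ ∈ (F.A x w).map (MulAut.conj (b : G)).toMonoidHom :=
      ⟨c, c.2, rfl⟩
    exact (SetLike.ext_iff.mp h _).mpr h'
  letI : MulAction ↥B ↥(F.A x w) :=
    { smul := fun b c => ⟨(b : G) * c * (b : G)⁻¹, hpres b c⟩
      one_smul := fun c => Subtype.ext (show ((1 : ↥B) : G) * c * ((1 : ↥B) : G)⁻¹ = c by simp)
      mul_smul := fun b b' c => Subtype.ext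
        (show ((b * b' : ↥B) : G) * c * ((b * b' : ↥B) : G)⁻¹
            = (b : G) * ((b' : G) * c * (b' : G)⁻¹) * (b : G)⁻¹ by
          simp [mul_inv_rev, mul_assoc]) }
  have hP : IsPGroup F.r ↥B := fun b => ⟨1, Subtype.ext (by simpa using hB b b.2)⟩
  have hdvd : F.r ∣ Nat.card ↥(F.A x w) := by
    obtain ⟨a, ha, ha1⟩ := F.exists_A_ne_one hxw
    have ho : orderOf (⟨a, ha⟩ : ↥(F.A x w)) = F.r :=
      orderOf_eq_prime (Subtype.ext (by simpa using F.pow x a ha.1))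
        fun e => ha1 (congrArg Subtype.val e)
    exact ho ▸ orderOf_dvd_natCard _
  have h1 : (1 : ↥(F.A x w)) ∈ fixedPoints ↥B ↥(F.A x w) := fun b =>
    Subtype.ext (show (b : G) * 1 * (b : G)⁻¹ = 1 by simp)
  obtain ⟨c, hc, hc1⟩ := hP.exists_fixed_point_of_prime_dvd_card_of_fixed_point _ hdvd h1
  refine ⟨c, c.2, fun e => hc1 (Subtype.ext e.symm), fun b hb => ?_⟩
  have h : b * (c : G) * b⁻¹ = c := congrArg Subtype.val (hc ⟨b, hb⟩)
  exact mul_inv_eq_iff_eq_mul.mp h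

/-- The key lemma: commutators of `A x y` with `M y` lie in `A y x`. -/
theorem delta_mem {x y : Ω} (hxy : x ≠ y) {a v : G} (ha : a ∈ F.A x y) (hv : v ∈ F.M y) :
    a * v * a⁻¹ * v⁻¹ ∈ F.A y x := by
  rw [mem_A] at ha
  have hmem : ∀ c : G, c • y = y → c * v * c⁻¹ * v⁻¹ ∈ F.M y := fun c hc => by
    have h := F.conj c y v hv
    rw [hc] at h
    exact mul_mem h (inv_mem hv)
  by_cases hvx : v • x = x
  · refine F.mem_A.mpr ⟨hmem a ha.2, ?_⟩
    have e1 : v⁻¹ • x = x := inv_smul_eq_iff.mpr hvx.symm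
    have e2 : a⁻¹ • x = x := inv_smul_eq_iff.mpr (F.fix x a ha.1).symm
    rw [mul_smul, mul_smul, mul_smul, e1, e2, hvx, F.fix x a ha.1]
  -- `A y x` fixes `x` and `v • x`
  obtain ⟨c, hc, hc1, hcb⟩ := F.exists_fixed (x := x) (w := v • x) (Ne.symm hvx) (F.A y x)
    (fun b hb => F.pow y b hb.1) (fun b hb => hb.2) fun b hb => by
      rw [← mul_smul, F.comm y b hb.1 v hv, mul_smul, show b • x = x from hb.2]
  rw [mem_A] at hc
  obtain ⟨b, hb, hb1⟩ := F.exists_A_ne_one hxy.symm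
  have hcy : c • y = y := F.fix_of_comm hb.1 hb1 (hcb b hb).symm
  have hcA : c ∈ F.A x y := F.mem_A.mpr ⟨hc.1, hcy⟩
  set e := c * v * c⁻¹ * v⁻¹ with he
  have heM : e ∈ F.M y := hmem c hcy
  have heA : e ∈ F.A y x := by
    refine F.mem_A.mpr ⟨heM, ?_⟩
    have e1 : e = v⁻¹ * c * v * c⁻¹ := by
      have h := F.comm y v hv e heM
      rw [show v⁻¹ * c * v * c⁻¹ = v⁻¹ * (e * v) by rw [he]; group, ← h, ← mul_assoc,
        inv_mul_cancel, one_mul]
    have e2 : c⁻¹ • x = x := inv_smul_eq_iff.mpr (F.fix x c hc.1).symm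
    rw [e1, mul_smul, mul_smul, mul_smul, e2, hc.2, inv_smul_smul]
  set f := a * v * a⁻¹ * v⁻¹ with hf
  have hfM : f ∈ F.M y := hmem a ha.2
  clear_value e f
  refine F.cent_A hcA hc1 hfM (mul_inv_eq_iff_eq_mul.mp ?_)
  have hac : a * c = c * a := F.comm x a ha.1 c hc.1
  have hae : a * e = e * a := F.comm_A hxy (F.mem_A.mpr ha) heA
  have hcv : c * v * c⁻¹ = e * v := by rw [he]; group
  have hav : a * v * a⁻¹ = f * v := by rw [hf]; group
  have key : c * f * c⁻¹ * (e * v) = e * f * v := by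
    calc c * f * c⁻¹ * (e * v) = c * f * c⁻¹ * (c * v * c⁻¹) := by rw [hcv]
      _ = c * (f * v) * c⁻¹ := by group
      _ = (c * a) * v * (c * a)⁻¹ := by rw [← hav]; group
      _ = a * (c * v * c⁻¹) * a⁻¹ := by rw [← hac]; group
      _ = e * (a * v * a⁻¹) := by rw [hcv, ← mul_assoc a e v, hae]; group
      _ = e * f * v := by rw [hav, mul_assoc]
  have key' : c * f * c⁻¹ * e = f * e := by
    rw [← F.comm y e heM f hfM]
    exact mul_right_cancel (b := v) (by rw [← key, mul_assoc (c * f * c⁻¹)])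
  exact mul_right_cancel key'

theorem fix_orbit {x y : Ω} (hxy : x ≠ y) {a v : G} (ha : a ∈ F.A x y) (hv : v ∈ F.M y) :
    a • v • x = v • x := by
  have hd := F.delta_mem hxy ha hv
  rw [mem_A] at hd ha
  set f := a * v * a⁻¹ * v⁻¹ with hf
  have h := F.comm y f hd.1 v hv
  have e1 : a * v = v * f * a := by rw [← h, hf]; group
  rw [← mul_smul, e1, mul_smul, mul_smul, F.fix x a ha.1, hd.2]

omit [Finite G] in
theorem fix_orbit' {x y : Ω} {a m : G} (ha : a ∈ F.A x y) (hm : m ∈ F.M x) :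
    a • m • y = m • y := by
  rw [← mul_smul, F.comm x a ha.1 m hm, mul_smul, show a • y = y from ha.2]

end Fam

end Cfsg.Agent.ONanLines
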