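/-
The linear space of a family of abelian subgroups of point stabilisers.

* `Fam.line_eq` : any two points of a line determine it
* `Fam.fix_closed` : fixed point sets of elements of the family are subspaces
* `Fam.subspace_bound` : a proper subspace has at most `(n - 1) / s` points
* `Fam.orbit_eq` : `M x` is transitive on the other points of each line through `x`
-/
import Cfsg.Agent.Lib.ONanLines.Fam

set_option autoImplicit false

namespace Cfsg.Agent.ONanLines

open MulAction Subgroup Finset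
open scoped Classical

noncomputable section

variable {G Ω : Type*} [Group G] [MulAction G Ω]

theorem card_filter_mem [Fintype G] (H : Subgroup G) :
    (univ.filter fun g : G => g ∈ H).card = Nat.card ↥H := by
  rw [Nat.card_eq_fintype_card, Fintype.card_subtype]

theorem card_image_smul [Fintype G] (H : Subgroup G) (y : Ω) :
    ((univ.filter fun g : G => g ∈ H).image (· • y)).card * Nat.card ↥(H ⊓ stabilizer G y) =
      Nat.card ↥H := by
  rw [← card_filter_mem H, card_eq_sum_card_image (· • y) (univ.filter fun g : G => g ∈ H),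
    sum_congr rfl (g := fun _ => Nat.card ↥(H ⊓ stabilizer G y)) ?_, sum_const, smul_eq_mul]
  intro w hw
  obtain ⟨g₀, hg₀, rfl⟩ := mem_image.mp hw
  rw [← card_filter_mem]
  have hg₀H : g₀ ∈ H := (mem_filter.mp hg₀).2
  refine card_nbij' (g₀⁻¹ * ·) (g₀ * ·) (fun g hg => ?_) (fun g hg => ?_)
    (fun g _ => mul_inv_cancel_left g₀ g) (fun g _ => inv_mul_cancel_left g₀ g)
  · simp only [mem_coe, mem_filter, mem_univ, true_and, Subgroup.mem_inf,
      mem_stabilizer_iff] at hg ⊢
    exact ⟨mul_mem (inv_mem hg₀H) hg.1, by rw [mul_smul, hg.2, inv_smul_smul]⟩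
  · simp only [mem_coe, mem_filter, mem_univ, true_and, Subgroup.mem_inf,
      mem_stabilizer_iff] at hg ⊢
    exact ⟨mul_mem hg₀H hg.1, by rw [mul_smul, hg.2]⟩

namespace Fam

variable (F : Fam G Ω) [Fintype Ω]

/-- The fixed points of an element. -/
def Fix (g : G) : Finset Ω := univ.filter fun w => g • w = w

/-- The line through two points. -/
def line (x y : Ω) : Finset Ω := univ.filter fun w => ∀ a ∈ F.A x y, a • w = w

/-- A set of points containing the line through any two of its points. -/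
def IsSub (H : Finset Ω) : Prop := ∀ v ∈ H, ∀ w ∈ H, v ≠ w → F.line v w ⊆ H

theorem mem_Fix {g : G} {w : Ω} : w ∈ Fix g ↔ g • w = w := by simp [Fix]

theorem mem_line {x y w : Ω} : w ∈ F.line x y ↔ ∀ a ∈ F.A x y, a • w = w := by simp [line]

theorem left_mem_line (x y : Ω) : x ∈ F.line x y :=
  F.mem_line.mpr fun a ha => F.fix x a (F.mem_A.mp ha).1

theorem right_mem_line (x y : Ω) : y ∈ F.line x y := F.mem_line.mpr fun _ ha => ha.2

theorem line_smul (g : G) (x y : Ω) :
    F.line (g • x) (g • y) = (F.line x y).image (g • ·) := by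
  ext w
  rw [mem_image, F.mem_line, F.A_smul]
  constructor
  · intro h
    refine ⟨g⁻¹ • w, F.mem_line.mpr fun a ha => ?_, smul_inv_smul g w⟩
    have h' := h _ ⟨a, ha, rfl⟩
    simpa [mul_smul, ← eq_inv_smul_iff] using h'
  · rintro ⟨v, hv, rfl⟩ _ ⟨a, ha, rfl⟩
    simp [mul_smul, F.mem_line.mp hv a ha]

theorem card_line_eq {x y x' y' : Ω} (h : x ≠ y) (h' : x' ≠ y') :
    (F.line x y).card = (F.line x' y').card := by
  obtain ⟨g, rfl, rfl⟩ := is_two_pretransitive_iff.mp F.two h h'
  rw [F.line_smul, card_image_of_injective _ (MulAction.injective g)]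

theorem smul_mem_line {x y w : Ω} {m : G} (hm : m ∈ F.M x) (hw : w ∈ F.line x y) :
    m • w ∈ F.line x y := by
  refine F.mem_line.mpr fun a ha => ?_
  rw [← mul_smul, F.comm x a ha.1 m hm, mul_smul, F.mem_line.mp hw a ha]

variable [Finite G]

theorem A_eq {x y z : Ω} (hxy : x ≠ y) (hzx : z ≠ x) (hz : z ∈ F.line x y) :
    F.A x z = F.A x y :=
  (Subgroup.eq_of_le_of_card_ge (H := F.A x y) (K := F.A x z)
    (fun a ha => F.mem_A.mpr ⟨ha.1, F.mem_line.mp hz a ha⟩)
    (F.card_A_eq hxy hzx.symm).ge).symm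

theorem line_A_eq {x y z : Ω} (hxy : x ≠ y) (hzx : z ≠ x) (hz : z ∈ F.line x y) :
    F.line x z = F.line x y := by
  ext w
  rw [F.mem_line, F.mem_line, F.A_eq hxy hzx hz]

theorem cycle {x y z : Ω} (hxy : x ≠ y) (hzx : z ≠ x) (hzy : z ≠ y) (hz : z ∈ F.line x y) :
    y ∈ F.line z x := by
  suffices hle : F.A z y ≤ F.A z x by
    refine F.mem_line.mpr fun a ha => ?_
    rw [← Subgroup.eq_of_le_of_card_ge hle (F.card_A_eq hzx hzy).le] at ha
    exact ha.2
  by_contra hnle
  obtain ⟨v, hv, hvx⟩ := SetLike.not_le_iff_exists.mp hnle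
  rw [mem_A] at hv
  have hA : F.A x z = F.A x y := F.A_eq hxy hzx hz
  have hmem : ∀ a : ↥(F.A x y), (a : G) * v * (a : G)⁻¹ * v⁻¹ ∈ F.A z y ⊓ F.A z x := by
    intro a
    have h := F.delta_mem hzx.symm (show (a : G) ∈ F.A x z by rw [hA]; exact a.2) hv.1
    have e1 : (a : G)⁻¹ • y = y := inv_smul_eq_iff.mpr (show (a : G) • y = y from a.2.2).symm
    have e2 : v⁻¹ • y = y := inv_smul_eq_iff.mpr hv.2.symm
    exact ⟨F.mem_A.mpr ⟨h.1, by
      rw [mul_smul, mul_smul, mul_smul, e2, e1, hv.2, show (a : G) • y = y from a.2.2]⟩, h⟩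
  have hinj : Function.Injective fun a => (⟨_, hmem a⟩ : ↥(F.A z y ⊓ F.A z x)) := by
    intro a a' h
    have h1 : (a : G) * v * (a : G)⁻¹ = (a' : G) * v * (a' : G)⁻¹ :=
      mul_right_cancel (congrArg Subtype.val h)
    by_contra hne
    refine hvx (F.cent_A (x := x) (a := (a' : G)⁻¹ * a) ?_ ?_ hv.1 ?_)
    · rw [hA]; exact mul_mem (inv_mem a'.2) a.2
    · rw [Ne, inv_mul_eq_one]; exact fun e => hne (Subtype.ext e.symm)
    · calc (a' : G)⁻¹ * a * v = (a' : G)⁻¹ * ((a : G) * v * (a : G)⁻¹) * a := by group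
        _ = v * ((a' : G)⁻¹ * a) := by rw [h1]; group
  have h1 := Nat.card_le_card_of_injective _ hinj
  rw [F.card_A_eq hxy hzy] at h1
  have := Subgroup.eq_of_le_of_card_ge (inf_le_left : F.A z y ⊓ F.A z x ≤ F.A z y) h1
  exact hnle (this ▸ inf_le_right)

theorem line_comm {x y : Ω} (hxy : x ≠ y) : F.line x y = F.line y x := by
  have key : ∀ {x y : Ω}, x ≠ y → F.line x y ⊆ F.line y x := by
    intro x y hxy z hz
    by_cases hzx : z = x
    · exact hzx ▸ F.right_mem_line y x
    by_cases hzy : z = y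
    · exact hzy ▸ F.left_mem_line y x
    have h1 := F.cycle hxy hzx hzy hz
    have h2 := F.cycle hzx (Ne.symm hzy) hxy.symm h1
    exact F.mem_line.mpr fun a ha => by
      rw [F.A_eq (Ne.symm hzy) hxy h2] at ha
      exact (F.mem_A.mp ha).2
  exact Subset.antisymm (key hxy) (key hxy.symm)

/-- Any two points of a line determine it. -/
theorem line_eq {x y p w : Ω} (hxy : x ≠ y) (hp : p ∈ F.line x y) (hw : w ∈ F.line x y)
    (hpw : p ≠ w) : F.line p w = F.line x y := by
  by_cases hpx : p = x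
  · subst hpx
    exact F.line_A_eq hxy hpw.symm hw
  have h1 := F.line_A_eq hxy hpx hp
  rw [F.line_comm (Ne.symm hpx)] at h1
  rw [F.line_A_eq hpx hpw.symm (h1 ▸ hw), h1]

theorem fix_closed {x : Ω} {m : G} (hm : m ∈ F.M x) : F.IsSub (Fix m) := by
  intro p hp w hw hpw z hz
  rw [mem_Fix] at hp hw ⊢
  by_cases hx : x ∈ F.line p w
  · obtain ⟨v, hv, hvx, hmv⟩ : ∃ v, v ∈ F.line p w ∧ v ≠ x ∧ m • v = v := by
      by_cases e : p = x
      · exact ⟨w, F.right_mem_line p w, e ▸ hpw.symm, hw⟩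
      · exact ⟨p, F.left_mem_line p w, e, hp⟩
    rw [← F.line_eq hpw hx hv hvx.symm] at hz
    exact F.mem_line.mp hz m ⟨hm, hmv⟩
  · by_contra hne
    have hzx : x ≠ z := fun e => hx (e ▸ hz)
    have h1 : m • z ∈ F.line p w := by
      rw [← hp, ← hw, F.line_smul]
      exact mem_image_of_mem _ hz
    have h2 : m • z ∈ F.line x z := F.smul_mem_line hm (F.right_mem_line x z)
    have e1 := F.line_eq hpw h1 hz hne
    have e2 := F.line_eq hzx h2 (F.right_mem_line x z) hne
    exact hx (e1 ▸ e2.symm ▸ F.left_mem_line x z)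

/-- Lines from a point outside a subspace to the subspace are disjoint apart from that point. -/
theorem lines_disjoint {H : Finset Ω} (hH : F.IsSub H) {v : Ω} (hv : v ∉ H) :
    (H : Set Ω).PairwiseDisjoint fun h => (F.line v h).erase v := by
  intro h hh h' hh' hne
  rw [Function.onFun, disjoint_left]
  intro z hz hz'
  simp only [mem_erase] at hz hz'
  have hvh : v ≠ h := fun e => hv (e ▸ hh)
  have hvh' : v ≠ h' := fun e => hv (e ▸ hh')
  have e1 := F.line_A_eq hvh hz.1 hz.2
  have e2 := F.line_A_eq hvh' hz'.1 hz'.2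
  have hh'mem : h' ∈ F.line v h := by rw [← e1, e2]; exact F.right_mem_line v h'
  have e3 := F.line_eq hvh (F.right_mem_line v h) hh'mem hne
  exact hv (hH h hh h' hh' hne (e3.symm ▸ F.left_mem_line v h))

/-- A proper subspace is small. -/
theorem subspace_bound {H : Finset Ω} (hH : F.IsSub H) {v : Ω} (hv : v ∉ H) {s : ℕ}
    (hs : ∀ h ∈ H, s ≤ ((F.line v h).erase v).card) : H.card * s + 1 ≤ Fintype.card Ω := by
  have hdis := F.lines_disjoint hH hv
  have h1 : (H.biUnion fun h => (F.line v h).erase v) ⊆ univ.erase v := fun z hz => by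
    obtain ⟨h, -, hz⟩ := mem_biUnion.mp hz
    exact mem_erase.mpr ⟨(mem_erase.mp hz).1, mem_univ z⟩
  have h2 := card_le_card h1
  rw [card_biUnion hdis, card_erase_of_mem (mem_univ v), card_univ] at h2
  have h3 : H.card * s ≤ ∑ h ∈ H, ((F.line v h).erase v).card := by
    rw [← smul_eq_mul, ← sum_const]
    exact sum_le_sum hs
  have : 0 < Fintype.card Ω := Fintype.card_pos_iff.mpr ⟨v⟩
  omega

end Fam

namespace Fam

variable (F : Fam G Ω) [Fintype Ω] [Fintype G]

/-- A first point of a pair. -/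
def px : Ω := F.nsr.choose

/-- A second point of a pair. -/
def py : Ω := F.nsr.choose_spec.choose

theorem px_ne_py : F.px ≠ F.py := F.nsr.choose_spec.choose_spec.1

/-- The order of the members. -/
def u : ℕ := Nat.card ↥(F.M F.px)

/-- The order of the two-point subgroups. -/
def a : ℕ := Nat.card ↥(F.A F.px F.py)

/-- The length of the orbits of a member outside its point. -/
def q : ℕ := F.u / F.a

/-- The non-identity elements of a member. -/
def P (x : Ω) : Finset G := (univ.filter fun g : G => g ∈ F.M x).erase 1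

/-- The orbit of `y` under `M x`. -/
def orb (x y : Ω) : Finset Ω := (univ.filter fun g : G => g ∈ F.M x).image (· • y)

theorem mem_P {x : Ω} {m : G} : m ∈ F.P x ↔ m ≠ 1 ∧ m ∈ F.M x := by simp [P]

theorem card_M (x : Ω) : Nat.card ↥(F.M x) = F.u := F.card_M_eq x _

theorem card_A {x y : Ω} (h : x ≠ y) : Nat.card ↥(F.A x y) = F.a := F.card_A_eq h F.px_ne_py

theorem card_P (x : Ω) : (F.P x).card = F.u - 1 := by
  rw [P, card_erase_of_mem (by simp), card_filter_mem, F.card_M]

theorem two_le_a : 2 ≤ F.a := by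
  obtain ⟨c, hc, hc1⟩ := F.exists_A_ne_one F.px_ne_py
  exact Finite.one_lt_card_iff_nontrivial.mpr ⟨⟨c, hc⟩, 1, fun e => hc1 (congrArg Subtype.val e)⟩

theorem orb_mul (x : Ω) {y : Ω} (h : x ≠ y) : (F.orb x y).card * F.a = F.u := by
  rw [← F.card_A h, ← F.card_M x]
  exact card_image_smul _ _

theorem q_mul_a : F.q * F.a = F.u := by
  have h := F.orb_mul F.px F.px_ne_py
  rw [q, ← h, Nat.mul_div_cancel _ (by have := F.two_le_a; omega)]

theorem card_orb {x y : Ω} (h : x ≠ y) : (F.orb x y).card = F.q :=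
  Nat.eq_of_mul_eq_mul_right (show 0 < F.a by have := F.two_le_a; omega)
    ((F.orb_mul x h).trans F.q_mul_a.symm)

theorem exists_move {x y : Ω} (h : x ≠ y) : ∃ m ∈ F.M x, m • y ≠ y := by
  by_contra hcon
  push Not at hcon
  obtain ⟨c, hc, hc1⟩ := F.exists_A_ne_one h
  have hle : F.M x ≤ F.A x y := fun m hm => ⟨hm, hcon m hm⟩
  refine hc1 (F.faithful c fun z => ?_)
  by_cases hz : x = z
  · exact hz ▸ F.fix x c hc.1
  have e : F.A x z = F.M x := Subgroup.eq_of_le_of_card_ge (F.A_le x z) (by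
    rw [F.card_A hz, ← F.card_A h, le_antisymm (F.A_le x y) hle])
  exact (e.symm ▸ hc.1 : c ∈ F.A x z).2

theorem mem_orb {x y w : Ω} : w ∈ F.orb x y ↔ ∃ m ∈ F.M x, m • y = w := by simp [orb]

theorem two_le_q : 2 ≤ F.q := by
  obtain ⟨m, hm, hmy⟩ := F.exists_move F.px_ne_py
  rw [← F.card_orb F.px_ne_py]
  exact one_lt_card.mpr ⟨_, F.mem_orb.mpr ⟨m, hm, rfl⟩, _,
    F.mem_orb.mpr ⟨1, one_mem _, one_smul G _⟩, hmy⟩

theorem orb_subset {x y : Ω} (h : x ≠ y) : F.orb x y ⊆ (F.line x y).erase x := by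
  intro w hw
  obtain ⟨m, hm, rfl⟩ := F.mem_orb.mp hw
  refine mem_erase.mpr ⟨fun e => h ?_, F.smul_mem_line hm (F.right_mem_line x y)⟩
  exact (smul_left_cancel m (e.trans (F.fix x m hm).symm)).symm

theorem sum_fix (x : Ω) :
    ∑ m ∈ F.P x, ((Fix m).erase x).card = (Fintype.card Ω - 1) * (F.a - 1) := by
  have e : ∀ m : G, (Fix (Ω := Ω) m).erase x = (univ.erase x).filter fun w => m • w = w := fun m => by
    ext w; simp [Fix]
  simp only [e, card_filter (fun w : Ω => _ • w = w)]
  rw [sum_comm]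
  simp only [← card_filter]
  rw [sum_congr rfl (g := fun _ => F.a - 1) fun w hw => ?_, sum_const, card_erase_of_mem (mem_univ x),
    card_univ, smul_eq_mul]
  rw [← F.card_A (ne_of_mem_erase hw).symm, ← card_filter_mem, ← card_erase_of_mem (a := (1 : G))
    (mem_filter.mpr ⟨mem_univ _, one_mem _⟩)]
  congr 1
  ext m
  simp [P, mem_A]
  tauto

theorem exists_moved {x : Ω} {m : G} (hm : m ∈ F.P x) : ∃ v, v ∉ Fix (Ω := Ω) m := by
  by_contra hcon
  push Not at hcon
  exact (F.mem_P.mp hm).1 (F.faithful m fun v => mem_Fix.mp (hcon v))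

/-- `M x` is transitive on the other points of a line through `x`. -/
theorem orbit_eq {x y : Ω} (h : x ≠ y) : F.orb x y = (F.line x y).erase x := by
  refine Subset.antisymm (F.orb_subset h) fun z hz => ?_
  by_contra hzo
  obtain ⟨hzx, hzl⟩ := mem_erase.mp hz
  have hd : Disjoint (F.orb x y) (F.orb x z) := by
    rw [disjoint_left]
    intro w h1 h2
    obtain ⟨m, hm, rfl⟩ := F.mem_orb.mp h1
    obtain ⟨m', hm', he⟩ := F.mem_orb.mp h2
    exact hzo (F.mem_orb.mpr ⟨m'⁻¹ * m, mul_mem (inv_mem hm') hm, by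
      rw [mul_smul, ← he, inv_smul_smul]⟩)
  have hsub := card_le_card (union_subset (F.orb_subset h)
    ((F.line_A_eq h hzx hzl) ▸ F.orb_subset (Ne.symm hzx) :
      F.orb x z ⊆ (F.line x y).erase x))
  rw [card_union_of_disjoint hd, F.card_orb h, F.card_orb (Ne.symm hzx)] at hsub
  have hline : ∀ v w, v ≠ w → 2 * F.q ≤ ((F.line v w).erase v).card := fun v w hvw => by
    rw [card_erase_of_mem (F.left_mem_line v w), F.card_line_eq hvw h,
      ← card_erase_of_mem (F.left_mem_line x y)]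
    omega
  have hsum : ∑ m ∈ F.P x, ((Fix m).erase x).card * (2 * F.q) ≤
      ∑ m ∈ F.P x, (Fintype.card Ω - 1) := by
    refine sum_le_sum fun m hm => ?_
    obtain ⟨v, hv⟩ := F.exists_moved hm
    have h1 := F.subspace_bound (F.fix_closed (F.mem_P.mp hm).2) hv fun w hw =>
      hline v w fun e => hv (e ▸ hw)
    have h2 : ((Fix m).erase x).card * (2 * F.q) ≤ (Fix (Ω := Ω) m).card * (2 * F.q) :=
      Nat.mul_le_mul_right _ (card_erase_le)
    omega
  rw [← sum_mul, F.sum_fix, sum_const, F.card_P, smul_eq_mul, ← F.q_mul_a] at hsum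
  have hn : 0 < Fintype.card Ω - 1 := by
    have := Fintype.one_lt_card_iff.mpr ⟨x, y, h⟩
    omega
  have ha := F.two_le_a
  have hq := F.two_le_q
  obtain ⟨b, hb⟩ : ∃ b, F.a = b + 2 := ⟨F.a - 2, by omega⟩
  rw [mul_assoc, mul_comm (F.q * F.a - 1)] at hsum
  have h3 := Nat.le_of_mul_le_mul_left hsum hn
  rw [hb, show b + 2 - 1 = b + 1 by omega, show F.q * (b + 2) = F.q * b + 2 * F.q by ring,
    show (b + 1) * (2 * F.q) = 2 * (F.q * b) + 2 * F.q by ring] at h3
  omega

theorem card_line_erase {x y : Ω} (h : x ≠ y) : ((F.line x y).erase x).card = F.q := by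
  rw [← F.orbit_eq h, F.card_orb h]

theorem exists_M_smul {x y z : Ω} (h : x ≠ y) (hzx : z ≠ x) (hz : z ∈ F.line x y) :
    ∃ m ∈ F.M x, m • y = z := by
  rw [← F.mem_orb, F.orbit_eq h]
  exact mem_erase.mpr ⟨hzx, hz⟩

/-- The number of lines through a point. -/
def R : ℕ := (Fintype.card Ω - 1) / F.q

theorem card_lines_within {x : Ω} {S : Finset Ω} (hS : ∀ y ∈ S, y ≠ x → F.line x y ⊆ S) :
    (S.erase x).card = ((S.erase x).image (F.line x)).card * F.q := by
  rw [card_eq_sum_card_image (F.line x) (S.erase x), sum_congr rfl (g := fun _ => F.q) ?_, sum_const,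
    smul_eq_mul]
  intro l hl
  obtain ⟨y, hy, rfl⟩ := mem_image.mp hl
  obtain ⟨hyx, hyS⟩ := mem_erase.mp hy
  rw [← F.card_line_erase (Ne.symm hyx)]
  congr 1
  ext w
  simp only [mem_filter, mem_erase]
  constructor
  · exact fun ⟨⟨h1, _⟩, h2⟩ => ⟨h1, h2 ▸ F.right_mem_line x w⟩
  · exact fun ⟨h1, h2⟩ => ⟨⟨h1, hS y hyS hyx h2⟩, F.line_A_eq (Ne.symm hyx) h1 h2⟩

theorem card_eq_R : Fintype.card Ω = F.R * F.q + 1 := by
  have h := F.card_lines_within (x := F.px) (S := univ) fun _ _ _ => subset_univ _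
  rw [card_erase_of_mem (mem_univ _), card_univ] at h
  have hpos := Fintype.card_pos_iff.mpr ⟨F.px⟩
  have e : F.R = ((univ.erase F.px).image (F.line F.px)).card := by
    rw [R, h, Nat.mul_div_cancel _ (by have := F.two_le_q; omega)]
  rw [e, ← h]
  omega

theorem card_le_R {H : Finset Ω} (hH : F.IsSub H) {v : Ω} (hv : v ∉ H) : H.card ≤ F.R := by
  have h := F.subspace_bound hH hv (s := F.q) fun w hw =>
    (F.card_line_erase fun e => hv (by rw [e]; exact hw)).ge
  rw [F.card_eq_R] at h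
  exact Nat.le_of_mul_le_mul_right (by omega) (show 0 < F.q by have := F.two_le_q; omega)

end Fam

end

end Cfsg.Agent.ONanLines
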