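/-
The hyperplanes of the linear space: fixed point sets of non-trivial members of the family.

* `Fam.card_J` : the order of the subgroup fixing a triangle
* `Fam.param` : the equality forced by counting
* `Fam.card_hyps`, `Fam.card_thru`, `Fam.card_thru2` : the hyperplanes form a symmetric design
-/
import Cfsg.Agent.Lib.ONanLines.Lines

set_option autoImplicit false

namespace Cfsg.Agent.ONanLines

open MulAction Subgroup Finset
open scoped Classical

noncomputable section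

variable {G Ω : Type*} [Group G] [MulAction G Ω]

namespace Fam

variable (F : Fam G Ω) [Fintype Ω] [Fintype G]

theorem exists_off_line {x y : Ω} (h : x ≠ y) : ∃ p, p ∉ F.line x y := by
  by_contra hcon
  push Not at hcon
  obtain ⟨c, hc, hc1⟩ := F.exists_A_ne_one h
  exact hc1 (F.faithful c fun p => F.mem_line.mp (hcon p) c hc)

section triangle

variable {x y p : Ω}

theorem off_line_ne (hp : p ∉ F.line x y) : x ≠ p ∧ y ≠ p :=
  ⟨fun e => hp (e ▸ F.left_mem_line x y), fun e => hp (e ▸ F.right_mem_line x y)⟩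

theorem A_not_le (hxy : x ≠ y) (hp : p ∉ F.line x y) : ¬F.A x p ≤ F.A x y := by
  intro h
  have e := Subgroup.eq_of_le_of_card_ge h (F.card_A_eq hxy (F.off_line_ne hp).1).le
  exact hp (F.mem_line.mpr fun a ha => by rw [← e] at ha; exact (F.mem_A.mp ha).2)

theorem comm_mem (hxy : x ≠ y) (hp : p ∉ F.line x y) {b m : G} (hb : b ∈ F.A y x ⊓ F.A y p)
    (hm : m ∈ F.M x) : b * m * b⁻¹ * m⁻¹ ∈ F.A x y ⊓ F.A x p := by
  obtain ⟨hbx, hbp⟩ := Subgroup.mem_inf.mp hb
  have h := F.delta_mem hxy.symm hbx hm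
  refine Subgroup.mem_inf.mpr ⟨h, F.mem_A.mpr ⟨(F.mem_A.mp h).1, ?_⟩⟩
  have hl : F.line x p ⊆ Fix b :=
    F.fix_closed (F.mem_A.mp hbx).1 x (mem_Fix.mpr (F.mem_A.mp hbx).2) p
      (mem_Fix.mpr (F.mem_A.mp hbp).2) (F.off_line_ne hp).1
  have h1 : b • m⁻¹ • p = m⁻¹ • p :=
    mem_Fix.mp (hl (F.smul_mem_line (inv_mem hm) (F.right_mem_line x p)))
  rw [mul_smul, mul_smul, mul_smul, inv_smul_eq_iff.mpr h1.symm, smul_inv_smul, (F.mem_A.mp hbp).2]

theorem comm_inj {b b' m : G} (hb : b ∈ F.A y x) (hb' : b' ∈ F.A y x)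
    (hmx : m ∈ F.M x) (hmy : m • y ≠ y) (h : b * m * b⁻¹ * m⁻¹ = b' * m * b'⁻¹ * m⁻¹) : b = b' := by
  by_contra hne
  refine hmy (F.cent_A (x := y) (y := x) (a := b'⁻¹ * b) (mul_mem (inv_mem hb') hb)
    (by rw [Ne, inv_mul_eq_one]; exact fun e => hne e.symm) hmx ?_).2
  have h1 : b * m * b⁻¹ = b' * m * b'⁻¹ := mul_right_cancel h
  calc b'⁻¹ * b * m = b'⁻¹ * (b * m * b⁻¹) * b := by group
    _ = m * (b'⁻¹ * b) := by rw [h1]; group

theorem card_I_le (hxy : x ≠ y) (hp : p ∉ F.line x y) :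
    Nat.card ↥(F.A y x ⊓ F.A y p) ≤ Nat.card ↥(F.A x y ⊓ F.A x p) := by
  obtain ⟨m, hm, hmy⟩ := SetLike.not_le_iff_exists.mp (F.A_not_le hxy hp)
  have hmx := (F.mem_A.mp hm).1
  refine Nat.card_le_card_of_injective
    (fun b => ⟨_, F.comm_mem hxy hp b.2 hmx⟩) fun b b' h => Subtype.ext ?_
  exact F.comm_inj b.2.1 b'.2.1 hmx (fun e => hmy (F.mem_A.mpr ⟨hmx, e⟩))
    (congrArg Subtype.val h)

theorem card_I_eq (hxy : x ≠ y) (hp : p ∉ F.line x y) :
    Nat.card ↥(F.A y x ⊓ F.A y p) = Nat.card ↥(F.A x y ⊓ F.A x p) :=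
  le_antisymm (F.card_I_le hxy hp)
    (F.card_I_le hxy.symm (fun h => hp (F.line_comm hxy ▸ h)))

theorem mem_I_of_comm (hxy : x ≠ y) (hp : p ∉ F.line x y) {b m : G} (hb : b ∈ F.A y x)
    (hm : m ∈ F.M x) (hmy : m • y ≠ y) (hJ : b * m * b⁻¹ * m⁻¹ ∈ F.A x y ⊓ F.A x p) :
    b ∈ F.A y x ⊓ F.A y p := by
  have hinj : Function.Injective fun c : ↥(F.A y x ⊓ F.A y p) =>
      (⟨_, F.comm_mem hxy hp c.2 hm⟩ : ↥(F.A x y ⊓ F.A x p)) := fun c c' h =>
    Subtype.ext (F.comm_inj c.2.1 c'.2.1 hm hmy (congrArg Subtype.val h))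
  obtain ⟨c, hc⟩ :=
    (hinj.bijective_of_nat_card_le (F.card_I_eq hxy hp).ge).2 ⟨_, hJ⟩
  rw [F.comm_inj hb c.2.1 hm hmy (congrArg Subtype.val hc).symm]
  exact c.2

theorem card_J (hxy : x ≠ y) (hp : p ∉ F.line x y) :
    F.q * Nat.card ↥(F.A x y ⊓ F.A x p) = F.a := by
  obtain ⟨hxp, hyp⟩ := F.off_line_ne hp
  have hp' : p ∉ F.line y x := fun h => hp (F.line_comm hxy ▸ h)
  refine le_antisymm ?_ ?_
  · obtain ⟨b, hb, hbp⟩ : ∃ b ∈ F.A y x, b • p ≠ p := by
      by_contra hcon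
      push Not at hcon
      exact hp' (F.mem_line.mpr hcon)
    have hsel : ∀ z : ↥(F.orb x y), ∃ m ∈ F.M x, m • y = (z : Ω) := fun z => F.mem_orb.mp z.2
    choose ms hms hmsy using hsel
    have hval : ∀ w : ↥(F.orb x y) × ↥(F.A x y ⊓ F.A x p),
        b * ms w.1 * b⁻¹ * (ms w.1)⁻¹ * (w.2 : G) ∈ F.A x y := fun w =>
      mul_mem (F.delta_mem hxy.symm hb (hms w.1)) w.2.2.1
    have hinj : Function.Injective fun w => (⟨_, hval w⟩ : ↥(F.A x y)) := by
      rintro ⟨z, j⟩ ⟨z', j'⟩ h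
      have h' : b * ms z * b⁻¹ * (ms z)⁻¹ * (j : G) = b * ms z' * b⁻¹ * (ms z')⁻¹ * (j' : G) :=
        congrArg Subtype.val h
      suffices hz : z = z' by
        subst hz
        exact Prod.ext rfl (Subtype.ext (mul_left_cancel h'))
      by_contra hne
      have hmm : (ms z')⁻¹ * ms z ∈ F.M x := mul_mem (inv_mem (hms z')) (hms z)
      have hmy : ((ms z')⁻¹ * ms z) • y ≠ y := by
        rw [mul_smul, Ne, inv_smul_eq_iff, hmsy, hmsy]
        exact fun e => hne (Subtype.ext e)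
      refine hbp (F.mem_I_of_comm hxy hp hb hmm hmy ?_).2.2
      have hcb : ∀ m ∈ F.M x, b * m * b⁻¹ ∈ F.M x := fun m hm => by
        have h := F.conj b x m hm
        rwa [(F.mem_A.mp hb).2] at h
      have hc : ∀ m ∈ F.M x, b * m * b⁻¹ * m⁻¹ ∈ F.M x := fun m hm =>
        mul_mem (hcb m hm) (inv_mem hm)
      have e1 : b * ((ms z')⁻¹ * ms z) * b⁻¹ * ((ms z')⁻¹ * ms z)⁻¹ =
          (b * ms z' * b⁻¹)⁻¹ * ((b * ms z * b⁻¹ * (ms z)⁻¹) * ms z') := by group
      have e2 : (b * ms z' * b⁻¹)⁻¹ * ((b * ms z * b⁻¹ * (ms z)⁻¹) * ms z') =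
          (b * ms z' * b⁻¹ * (ms z')⁻¹)⁻¹ * (b * ms z * b⁻¹ * (ms z)⁻¹) := by
        rw [← mul_assoc,
          F.comm x _ (mul_mem (inv_mem (hcb _ (hms z'))) (hc _ (hms z))) _ (hms z')]
        group
      have e3 : (b * ms z' * b⁻¹ * (ms z')⁻¹)⁻¹ * (b * ms z * b⁻¹ * (ms z)⁻¹) =
          (j' : G) * (j : G)⁻¹ := by
        rw [inv_mul_eq_iff_eq_mul, ← mul_assoc, eq_mul_inv_iff_mul_eq, h']
      rw [e1, e2, e3]
      exact mul_mem j'.2 (inv_mem j.2)
    have h := Nat.card_le_card_of_injective _ hinj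
    rwa [Nat.card_prod, Nat.card_eq_fintype_card (α := ↥(F.orb x y)), Fintype.card_coe,
      F.card_orb hxy, F.card_A hxy] at h
  · have h := card_image_smul (F.A x p) y
    have e : F.A x p ⊓ stabilizer G y = F.A x y ⊓ F.A x p := by
      ext g
      simp only [Subgroup.mem_inf, mem_stabilizer_iff, mem_A]
      tauto
    rw [e, F.card_A hxp] at h
    rw [← h, ← F.card_orb hxy]
    refine Nat.mul_le_mul_right _ (card_le_card fun w hw => ?_)
    obtain ⟨g, hg, rfl⟩ := mem_image.mp hw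
    exact F.mem_orb.mpr ⟨g, (F.mem_A.mp (mem_filter.mp hg).2).1, rfl⟩

end triangle

theorem sum_sq (x : Ω) {j : ℕ} (hj : F.q * j = F.a) :
    ∑ m ∈ F.P x, ((Fix (Ω := Ω) m).erase x).card * ((Fix (Ω := Ω) m).erase x).card =
      (Fintype.card Ω - 1) *
        (F.q * (F.a - 1) + (Fintype.card Ω - 1 - F.q) * (j - 1)) := by
  have e : ∀ m : G, ((Fix (Ω := Ω) m).erase x).card * ((Fix (Ω := Ω) m).erase x).card =
      ∑ y ∈ univ.erase x, ∑ w ∈ univ.erase x, if m • y = y ∧ m • w = w then 1 else 0 := fun m => by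
    have e1 : (Fix (Ω := Ω) m).erase x = (univ.erase x).filter fun w => m • w = w := by
      ext w; simp [Fix]
    simp only [e1, card_filter, sum_mul_sum, ite_zero_mul_ite_zero, mul_one]
  simp only [e]
  rw [sum_comm, sum_congr rfl (g := fun _ => F.q * (F.a - 1) + (Fintype.card Ω - 1 - F.q) * (j - 1))
    fun y hy => ?_, sum_const, card_erase_of_mem (mem_univ x), card_univ, smul_eq_mul]
  have hxy : x ≠ y := (ne_of_mem_erase hy).symm
  rw [sum_comm, sum_congr rfl (g := fun w => if w ∈ F.line x y then F.a - 1 else j - 1)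
    fun w hw => ?_, sum_ite, sum_const, sum_const, smul_eq_mul, smul_eq_mul]
  · have e2 : (univ.erase x).filter (fun w => w ∈ F.line x y) = (F.line x y).erase x := by
      ext w; simp
    have e3 := card_filter_add_card_filter_not (s := univ.erase x) (fun w => w ∈ F.line x y)
    rw [e2, F.card_line_erase hxy, card_erase_of_mem (mem_univ x), card_univ] at e3
    rw [e2, F.card_line_erase hxy]
    congr 2
    omega
  · have hxw : x ≠ w := (ne_of_mem_erase hw).symm
    rw [← card_filter]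
    have e4 : (F.P x).filter (fun m => m • y = y ∧ m • w = w) =
        (univ.filter fun g : G => g ∈ F.A x y ⊓ F.A x w).erase 1 := by
      ext m
      simp [P, mem_A]
      tauto
    rw [e4, card_erase_of_mem (by simp), card_filter_mem]
    split_ifs with hw'
    · rw [F.A_eq hxy hxw.symm hw', inf_idem, F.card_A hxy]
    · congr 1
      exact Nat.eq_of_mul_eq_mul_left (by have := F.two_le_q; omega)
        ((F.card_J hxy hw').trans hj.symm)

theorem param_aux (x : Ω) :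
    F.R * (F.q - 1) = F.u - 1 ∧ ∀ m ∈ F.P x, (Fix (Ω := Ω) m).card = F.R := by
  obtain ⟨y, hy⟩ : ∃ y, x ≠ y := by
    by_contra hcon
    push Not at hcon
    exact F.px_ne_py ((hcon _).symm.trans (hcon _))
  obtain ⟨p, hp⟩ := F.exists_off_line hy
  obtain ⟨j, hj, hj0⟩ : ∃ j, F.q * j = F.a ∧ 0 < j :=
    ⟨_, F.card_J hy hp, Nat.card_pos⟩
  set e : G → ℕ := fun m => ((Fix (Ω := Ω) m).erase x).card with he
  have hcard : ∀ m ∈ F.P x, (Fix (Ω := Ω) m).card = e m + 1 := fun m hm =>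
    (card_erase_add_one (mem_Fix.mpr (F.fix x m (F.mem_P.mp hm).2))).symm
  have hle : ∀ m ∈ F.P x, e m + 1 ≤ F.R := fun m hm => by
    obtain ⟨v, hv⟩ := F.exists_moved hm
    exact hcard m hm ▸ F.card_le_R (F.fix_closed (F.mem_P.mp hm).2) hv
  have h1 : ∑ m ∈ F.P x, (e m + 1) ≤ ∑ m ∈ F.P x, F.R := sum_le_sum hle
  have hn : Fintype.card Ω - 1 = F.R * F.q := by rw [F.card_eq_R]; omega
  have h1' := h1
  rw [sum_add_distrib, sum_const, sum_const, smul_eq_mul, smul_eq_mul, F.card_P, he, F.sum_fix, hn,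
    mul_one, ← F.q_mul_a] at h1'
  have h2 := sq_sum_le_card_mul_sum_sq (s := F.P x) (f := fun m => (e m : ℤ))
  have hsq : ∑ m ∈ F.P x, ((e m : ℤ)) ^ 2 = ((∑ m ∈ F.P x, e m * e m : ℕ) : ℤ) := by
    push_cast
    exact sum_congr rfl fun m _ => sq _
  have hs : ∑ m ∈ F.P x, (e m : ℤ) = ((∑ m ∈ F.P x, e m : ℕ) : ℤ) := by push_cast; rfl
  rw [hsq, hs, F.card_P, he, F.sum_fix, F.sum_sq x hj, hn, ← F.q_mul_a] at h2
  have hq := F.two_le_q
  have ha := F.two_le_a
  have hR : 0 < F.R := Nat.pos_of_ne_zero fun h => by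
    rw [h, zero_mul] at hn
    have := Fintype.one_lt_card_iff.mpr ⟨x, y, hy⟩
    omega
  obtain ⟨r', hr'⟩ : ∃ r', F.R = r' + 1 := ⟨F.R - 1, by omega⟩
  obtain ⟨q', hq'⟩ : ∃ q', F.q = q' + 2 := ⟨F.q - 2, by omega⟩
  obtain ⟨j', hj'⟩ : ∃ j', j = j' + 1 := ⟨j - 1, by omega⟩
  have hu1 : 1 ≤ F.q * F.a := Nat.mul_pos (by omega) (by omega)
  have hsub : F.R * F.q - F.q = r' * F.q := by
    rw [hr', add_mul, one_mul, Nat.add_sub_cancel]
  rw [hsub, ← hj] at h2
  rw [← hj] at h1' hu1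
  have key : F.R * (F.q - 1) = F.u - 1 := by
    rw [← F.q_mul_a, ← hj]
    have hu2 : 1 ≤ F.q * j := Nat.mul_pos (by omega) hj0
    zify [hu1, hu2, show 1 ≤ j from hj0, show 1 ≤ F.q by omega] at h1' h2 ⊢
    have hRz : (F.R : ℤ) = r' + 1 := by exact_mod_cast hr'
    have hqz : (F.q : ℤ) = q' + 2 := by exact_mod_cast hq'
    have hjz : (j : ℤ) = j' + 1 := by exact_mod_cast hj'
    refine le_antisymm ?_ (by linear_combination h1')
    have hpos : (0 : ℤ) < (F.R : ℤ) * F.q * F.q * j * (F.q - 1) := by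
      rw [hRz, hqz, hjz, show (q' : ℤ) + 2 - 1 = q' + 1 by ring]; positivity
    refine le_of_mul_le_mul_left ?_ hpos
    rw [hRz] at h2 ⊢
    linear_combination h2
  refine ⟨key, fun m hm => ?_⟩
  have hsum : ∑ m ∈ F.P x, (e m + 1) = ∑ m ∈ F.P x, F.R := by
    refine le_antisymm h1 ?_
    rw [sum_add_distrib, sum_const, sum_const, smul_eq_mul, smul_eq_mul, F.card_P, he, F.sum_fix, hn,
      mul_one]
    rw [← key]
    obtain ⟨b, hb⟩ : ∃ b, F.a = b + 1 := ⟨F.a - 1, by omega⟩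
    have e1 : F.u - 1 = F.q * b + (F.q - 1) := by
      rw [← F.q_mul_a, hb, mul_add, mul_one]; omega
    rw [key, hb, Nat.add_sub_cancel]
    calc (F.u - 1) * F.R = F.R * F.q * b + F.R * (F.q - 1) := by rw [e1]; ring
      _ ≤ F.R * F.q * b + (F.u - 1) := by rw [key]
  rw [hcard m hm]
  exact (sum_eq_sum_iff_of_le hle).mp hsum m hm

theorem param : F.R * (F.q - 1) = F.u - 1 := (F.param_aux F.px).1

theorem card_Fix {x : Ω} {m : G} (hm : m ∈ F.P x) : (Fix (Ω := Ω) m).card = F.R :=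
  (F.param_aux x).2 m hm

/-- A hyperplane. -/
def IsHyp (K : Finset Ω) : Prop := ∃ x m, m ∈ F.P x ∧ K = Fix m

/-- The hyperplanes. -/
def hyps : Finset (Finset Ω) := univ.filter F.IsHyp

/-- The common size of the meets of two hyperplanes. -/
def T : ℕ := (F.R - 1) / F.q

variable {F}

theorem mem_hyps {K : Finset Ω} : K ∈ F.hyps ↔ F.IsHyp K := by simp [hyps]

theorem IsHyp.card {K : Finset Ω} (h : F.IsHyp K) : K.card = F.R := by
  obtain ⟨x, m, hm, rfl⟩ := h
  exact F.card_Fix hm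

theorem IsHyp.isSub {K : Finset Ω} (h : F.IsHyp K) : F.IsSub K := by
  obtain ⟨x, m, hm, rfl⟩ := h
  exact F.fix_closed (F.mem_P.mp hm).2

theorem IsHyp.exists_notMem {K : Finset Ω} (h : F.IsHyp K) : ∃ v, v ∉ K := by
  obtain ⟨x, m, hm, rfl⟩ := h
  exact F.exists_moved hm

theorem IsHyp.smul {K : Finset Ω} (h : F.IsHyp K) (g : G) : F.IsHyp (K.image (g • ·)) := by
  obtain ⟨x, m, hm, rfl⟩ := h
  rw [F.mem_P] at hm
  refine ⟨g • x, g * m * g⁻¹, F.mem_P.mpr ⟨?_, F.conj g x m hm.2⟩, ?_⟩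
  · rw [Ne, conj_eq_one_iff]; exact hm.1
  · ext w
    simp only [mem_image, mem_Fix, mul_smul]
    constructor
    · rintro ⟨v, hv, rfl⟩; rw [inv_smul_smul, hv]
    · exact fun hw => ⟨g⁻¹ • w, by rw [eq_inv_smul_iff]; exact hw, smul_inv_smul g w⟩

theorem IsHyp.meet {K : Finset Ω} (h : F.IsHyp K) {v z : Ω} (hv : v ∉ K) (hz : z ≠ v) :
    ∃ k ∈ K, k ∈ F.line v z := by
  have hsub : (K.biUnion fun k => (F.line v k).erase v) ⊆ univ.erase v := fun w hw => by
    obtain ⟨k, -, hw⟩ := mem_biUnion.mp hw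
    exact mem_erase.mpr ⟨(mem_erase.mp hw).1, mem_univ w⟩
  have he : (K.biUnion fun k => (F.line v k).erase v) = univ.erase v := by
    refine eq_of_subset_of_card_le hsub ?_
    rw [card_biUnion (F.lines_disjoint h.isSub hv),
      sum_congr rfl fun k hk => F.card_line_erase fun e => hv (by rw [e]; exact hk),
      sum_const, smul_eq_mul, h.card, card_erase_of_mem (mem_univ v), card_univ, F.card_eq_R]
    omega
  have hz' : z ∈ K.biUnion fun k => (F.line v k).erase v := he ▸ mem_erase.mpr ⟨hz, mem_univ z⟩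
  obtain ⟨k, hk, hzk⟩ := mem_biUnion.mp hz'
  refine ⟨k, hk, ?_⟩
  rw [F.line_A_eq (fun e => hv (by rw [e]; exact hk)) hz (mem_erase.mp hzk).2]
  exact F.right_mem_line v k

theorem IsHyp.inter {K K' : Finset Ω} (h : F.IsHyp K) (h' : F.IsHyp K') (hne : K ≠ K') :
    (K ∩ K').card * F.q + 1 = F.R := by
  obtain ⟨z, hzK', hzK⟩ : ∃ z ∈ K', z ∉ K := by
    by_contra hcon
    push Not at hcon
    exact hne (eq_of_subset_of_card_le hcon (by rw [h.card, h'.card])).symm
  have e : K'.erase z = (K ∩ K').biUnion fun k => (F.line z k).erase z := by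
    ext w
    simp only [mem_erase, mem_biUnion, mem_inter]
    constructor
    · rintro ⟨hwz, hw⟩
      obtain ⟨k, hk, hkl⟩ := h.meet hzK hwz
      have hkz : k ≠ z := fun e => hzK (e ▸ hk)
      refine ⟨k, ⟨hk, h'.isSub z hzK' w hw hwz.symm hkl⟩, hwz, ?_⟩
      rw [F.line_A_eq hwz.symm hkz hkl]
      exact F.right_mem_line z w
    · rintro ⟨k, ⟨hk, hk'⟩, hwz, hw⟩
      exact ⟨hwz, h'.isSub z hzK' k hk' (fun e => hzK (e ▸ hk)) hw⟩
  have hc := congrArg Finset.card e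
  rw [card_biUnion ((F.lines_disjoint h.isSub hzK).subset (coe_subset.mpr inter_subset_left)),
    sum_congr rfl fun k hk => F.card_line_erase fun e => hzK (by rw [e]; exact (mem_inter.mp hk).1),
    sum_const, smul_eq_mul, card_erase_of_mem hzK', h'.card] at hc
  have : 0 < F.R := h'.card ▸ card_pos.mpr ⟨z, hzK'⟩
  omega

variable (F)

theorem R_eq : F.q * F.T + 1 = F.R := by
  obtain ⟨c, hc, hc1⟩ := F.exists_A_ne_one F.px_ne_py
  have hP : c ∈ F.P F.px := F.mem_P.mpr ⟨hc1, (F.mem_A.mp hc).1⟩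
  have hx : F.px ∈ Fix c := mem_Fix.mpr (F.fix F.px c (F.mem_A.mp hc).1)
  have h := F.card_lines_within (x := F.px) (S := Fix c) fun y hy hyx =>
    F.fix_closed (F.mem_A.mp hc).1 F.px hx y hy hyx.symm
  rw [card_erase_of_mem hx, F.card_Fix hP] at h
  have : 0 < F.R := F.card_Fix hP ▸ card_pos.mpr ⟨_, hx⟩
  rw [T, h, Nat.mul_div_cancel _ (by have := F.two_le_q; omega), mul_comm]
  omega

theorem card_inter {K K' : Finset Ω} (h : F.IsHyp K) (h' : F.IsHyp K') (hne : K ≠ K') :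
    (K ∩ K').card = F.T := by
  have h1 := h.inter h' hne
  have h2 := F.R_eq
  refine Nat.eq_of_mul_eq_mul_right (show 0 < F.q by have := F.two_le_q; omega) ?_
  rw [mul_comm F.T]
  omega

theorem T_pos : 0 < F.T := by
  obtain ⟨c, hc, hc1⟩ := F.exists_A_ne_one F.px_ne_py
  have hP : c ∈ F.P F.px := F.mem_P.mpr ⟨hc1, (F.mem_A.mp hc).1⟩
  have h : 1 < F.R := F.card_Fix hP ▸ one_lt_card.mpr ⟨F.px,
    mem_Fix.mpr (F.fix F.px c (F.mem_A.mp hc).1), F.py, mem_Fix.mpr (F.mem_A.mp hc).2, F.px_ne_py⟩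
  refine Nat.pos_of_ne_zero fun e => ?_
  have := F.R_eq
  rw [e, mul_zero] at this
  omega

theorem fibre_le {x : Ω} {K : Finset Ω} (hK : F.IsHyp K) (hx : x ∈ K) :
    ((F.P x).filter fun m => Fix m = K).card ≤ F.q - 1 := by
  obtain ⟨v, hv⟩ := hK.exists_notMem
  have hxv : x ≠ v := fun e => hv (e ▸ hx)
  rw [← F.card_line_erase hxv, ← card_erase_of_mem (a := v)
    (mem_erase.mpr ⟨hxv.symm, F.right_mem_line x v⟩)]
  refine card_le_card_of_injOn (· • v) (fun m hm => ?_) fun m hm m' hm' h => ?_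
  · simp only [mem_coe, mem_filter, F.mem_P] at hm
    refine mem_erase.mpr ⟨fun e => hv (hm.2 ▸ mem_Fix.mpr e), mem_erase.mpr ⟨fun e => hxv ?_,
      F.smul_mem_line hm.1.2 (F.right_mem_line x v)⟩⟩
    exact (smul_left_cancel m (e.trans (F.fix x m hm.1.2).symm)).symm
  · simp only [mem_coe, mem_filter, F.mem_P] at hm hm'
    by_contra hne
    have hP : m'⁻¹ * m ∈ F.P x := F.mem_P.mpr
      ⟨by rw [Ne, inv_mul_eq_one]; exact fun e => hne e.symm, mul_mem (inv_mem hm'.1.2) hm.1.2⟩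
    have hsub : insert v K ⊆ Fix (m'⁻¹ * m) := by
      intro w hw
      rw [mem_Fix, mul_smul, inv_smul_eq_iff]
      rcases mem_insert.mp hw with rfl | hw
      · exact h
      · rw [mem_Fix.mp (hm.2.symm ▸ hw : w ∈ Fix m), mem_Fix.mp (hm'.2.symm ▸ hw : w ∈ Fix m')]
    have h1 := card_le_card hsub
    rw [card_insert_of_notMem hv, hK.card, F.card_Fix hP] at h1
    omega

/-- The hyperplanes through a point. -/
def thru (x : Ω) : Finset (Finset Ω) := F.hyps.filter fun K => x ∈ K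

theorem mem_thru {x : Ω} {K : Finset Ω} : K ∈ F.thru x ↔ F.IsHyp K ∧ x ∈ K := by
  simp [thru, hyps]

theorem image_subset (x : Ω) : (F.P x).image Fix ⊆ F.thru x := fun K hK => by
  obtain ⟨m, hm, rfl⟩ := mem_image.mp hK
  exact F.mem_thru.mpr ⟨⟨x, m, hm, rfl⟩, mem_Fix.mpr (F.fix x m (F.mem_P.mp hm).2)⟩

theorem R_le_image (x : Ω) : F.R ≤ ((F.P x).image (Fix (Ω := Ω))).card := by
  have h := card_le_mul_card_image (f := Fix (Ω := Ω)) (F.P x) (F.q - 1) fun K hK =>
    F.fibre_le (F.mem_thru.mp (F.image_subset x hK)).1 (F.mem_thru.mp (F.image_subset x hK)).2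
  rw [F.card_P, ← F.param, mul_comm (F.q - 1)] at h
  exact Nat.le_of_mul_le_mul_right h (by have := F.two_le_q; omega)

theorem R_le_thru (x : Ω) : F.R ≤ (F.thru x).card :=
  (F.R_le_image x).trans (card_le_card (F.image_subset x))

theorem sum_thru : ∑ x, (F.thru x).card = F.hyps.card * F.R := by
  simp only [thru, card_filter]
  rw [sum_comm]
  simp only [← card_filter, filter_univ_mem]
  rw [sum_congr rfl fun K hK => (mem_hyps.mp hK).card, sum_const, smul_eq_mul]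

theorem sum_thru_sq : ∑ x, (F.thru x).card * (F.thru x).card =
    F.hyps.card * F.R + F.hyps.card * (F.hyps.card - 1) * F.T := by
  have e : ∀ x, (F.thru x).card * (F.thru x).card =
      ((F.hyps ×ˢ F.hyps).filter fun z => x ∈ z.1 ∧ x ∈ z.2).card := fun x => by
    rw [← card_product]
    congr 1
    ext z
    simp only [thru, mem_product, mem_filter]
    tauto
  simp only [e, card_filter]
  rw [sum_comm, ← F.hyps.diag_union_offDiag, sum_union (disjoint_diag_offDiag _),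
    sum_congr rfl (g := fun _ => F.R) (fun z hz => ?_),
    sum_congr rfl (g := fun _ => F.T) (s₁ := F.hyps.offDiag) (fun z hz => ?_),
    sum_const, sum_const, diag_card, offDiag_card, smul_eq_mul, smul_eq_mul]
  · rw [← Nat.mul_sub_one]
  · obtain ⟨h1, h2, h3⟩ := mem_offDiag.mp hz
    rw [← card_filter, ← F.card_inter (mem_hyps.mp h1) (mem_hyps.mp h2) h3]
    congr 1
    ext w; simp
  · obtain ⟨h1, h2⟩ := mem_diag.mp hz
    rw [← card_filter, ← (mem_hyps.mp h1).card, ← h2]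
    congr 1
    ext w; simp

theorem card_hyps : F.hyps.card = Fintype.card Ω := by
  refine le_antisymm ?_ ?_
  · have h := sq_sum_le_card_mul_sum_sq (s := (univ : Finset Ω)) (f := fun x => ((F.thru x).card : ℤ))
    have e1 : ∑ x, ((F.thru x).card : ℤ) = ((F.hyps.card * F.R : ℕ) : ℤ) := by
      rw [← F.sum_thru]; push_cast; rfl
    have e2 : ∑ x, ((F.thru x).card : ℤ) ^ 2 =
        ((F.hyps.card * F.R + F.hyps.card * (F.hyps.card - 1) * F.T : ℕ) : ℤ) := by
      rw [← F.sum_thru_sq]; push_cast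
      exact sum_congr rfl fun x _ => sq _
    rw [e1, e2, card_univ, F.card_eq_R] at h
    rw [F.card_eq_R]
    rcases Nat.eq_zero_or_pos F.hyps.card with h0 | h0
    · omega
    have hR := F.R_eq
    have hT := F.T_pos
    have hq := F.two_le_q
    zify [show 1 ≤ F.hyps.card by omega] at h hR ⊢
    have hlt : (0 : ℤ) < (F.hyps.card : ℤ) * ((F.R : ℤ) - F.T) := by
      refine mul_pos (by exact_mod_cast h0) ?_
      rw [← hR]
      have : (2 : ℤ) * F.T ≤ (F.q : ℤ) * F.T :=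
        mul_le_mul_of_nonneg_right (by exact_mod_cast hq) (by positivity)
      linarith
    refine le_of_mul_le_mul_left ?_ hlt
    rw [← hR] at h ⊢
    linear_combination h
  · refine Nat.le_of_mul_le_mul_right ?_ (F.R_eq ▸ Nat.succ_pos _ : 0 < F.R)
    rw [← F.sum_thru, ← card_univ, ← smul_eq_mul, ← sum_const]
    exact sum_le_sum fun x _ => F.R_le_thru x

theorem card_thru (x : Ω) : (F.thru x).card = F.R := by
  have h : ∑ _x : Ω, F.R = ∑ x, (F.thru x).card := by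
    rw [F.sum_thru, F.card_hyps, sum_const, card_univ, smul_eq_mul]
  exact ((sum_eq_sum_iff_of_le fun x _ => F.R_le_thru x).mp h x (mem_univ x)).symm

theorem image_eq (x : Ω) : (F.P x).image Fix = F.thru x :=
  eq_of_subset_of_card_le (F.image_subset x) ((F.card_thru x).le.trans (F.R_le_image x))

theorem arises {x : Ω} {K : Finset Ω} (hK : F.IsHyp K) (hx : x ∈ K) : ∃ m ∈ F.P x, Fix m = K :=
  mem_image.mp ((F.image_eq x).symm ▸ F.mem_thru.mpr ⟨hK, hx⟩)

theorem fibre_eq {x : Ω} {K : Finset Ω} (hK : F.IsHyp K) (hx : x ∈ K) :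
    ((F.P x).filter fun m => Fix m = K).card = F.q - 1 := by
  have hle : ∀ L ∈ F.thru x, ((F.P x).filter fun m => Fix m = L).card ≤ F.q - 1 := fun L hL =>
    F.fibre_le (F.mem_thru.mp hL).1 (F.mem_thru.mp hL).2
  refine (sum_eq_sum_iff_of_le hle).mp ?_ K (F.mem_thru.mpr ⟨hK, hx⟩)
  rw [sum_const, F.card_thru, smul_eq_mul, F.param, ← F.card_P x, ← F.image_eq x]
  exact (card_eq_sum_card_image _ _).symm

theorem card_thru2 {x y : Ω} (hxy : x ≠ y) :
    (F.hyps.filter fun K => x ∈ K ∧ y ∈ K).card = F.T := by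
  have e : F.hyps.filter (fun K => x ∈ K ∧ y ∈ K) = (F.thru x).filter (fun K => y ∈ K) := by
    rw [thru, filter_filter]
  rw [e]
  have h1 : ((F.P x).filter fun m => m • y = y).card = F.a - 1 := by
    rw [← F.card_A hxy, ← card_filter_mem, ← card_erase_of_mem (a := (1 : G))
      (mem_filter.mpr ⟨mem_univ _, one_mem _⟩)]
    congr 1
    ext m
    simp [P, mem_A]
    tauto
  have h2 : ((F.P x).filter fun m => m • y = y).card =
      ((F.thru x).filter fun K => y ∈ K).card * (F.q - 1) := by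
    rw [card_eq_sum_card_fiberwise (f := Fix (Ω := Ω)) (t := (F.thru x).filter fun K => y ∈ K)
      (fun m hm => by
        simp only [mem_coe, mem_filter] at hm ⊢
        exact ⟨F.image_subset x (mem_image_of_mem _ hm.1), mem_Fix.mpr hm.2⟩),
      sum_congr rfl (g := fun _ => F.q - 1) fun K hK => ?_, sum_const, smul_eq_mul]
    obtain ⟨hK1, hK2⟩ := mem_filter.mp hK
    rw [← F.fibre_eq (F.mem_thru.mp hK1).1 (F.mem_thru.mp hK1).2, filter_filter]
    congr 1
    refine filter_congr fun m _ => ⟨fun h => h.2, fun h => ⟨?_, h⟩⟩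
    exact mem_Fix.mp (h.symm ▸ hK2)
  rw [h1] at h2
  have hq := F.two_le_q
  refine Nat.eq_of_mul_eq_mul_right (show 0 < F.q - 1 by omega) (h2.symm.trans ?_)
  refine Nat.eq_of_mul_eq_mul_left (show 0 < F.q by omega) ?_
  have hp := F.param
  rw [← F.R_eq, ← F.q_mul_a] at hp
  obtain ⟨b, hb⟩ : ∃ b, F.a = b + 1 := ⟨F.a - 1, by have := F.two_le_a; omega⟩
  rw [hb, add_mul, one_mul, mul_add F.q b 1, mul_one, mul_assoc] at hp
  rw [hb, Nat.add_sub_cancel]
  omega

end Fam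

end

end Cfsg.Agent.ONanLines
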