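/-
Recognition of the projective special linear groups from an abelian normal subgroup of a point
stabiliser which is not semiregular.

* `Fam.exists_psl` : a normal subgroup isomorphic to `PSL` with trivial centraliser
* `ofNormal` : the family defined by an abelian normal subgroup of a point stabiliser
-/
import Cfsg.Agent.Lib.ONanLines.Hyperplanes
import Cfsg.Agent.Lib.AxialDesign.Recognition

set_option autoImplicit false

namespace Cfsg.Agent.ONanLines

open MulAction Subgroup Finset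
open scoped Classical

noncomputable section

variable {G Ω : Type*} [Group G] [MulAction G Ω]

namespace Fam

variable (F : Fam G Ω) [Fintype Ω] [Fintype G]

/-- The type of hyperplanes. -/
abbrev Hyp : Type _ := {K : Finset Ω // F.IsHyp K}

/-- The action on hyperplanes. -/
instance : MulAction G F.Hyp where
  smul g K := ⟨K.1.image (g • ·), K.2.smul g⟩
  one_smul K := Subtype.ext (show K.1.image ((1 : G) • ·) = K.1 by simp)
  mul_smul g h K := Subtype.ext (show K.1.image ((g * h) • ·) = (K.1.image (h • ·)).image (g • ·) by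
    simp [image_image, Function.comp_def, mul_smul])

theorem coe_smul (g : G) (K : F.Hyp) : (g • K).1 = K.1.image (g • ·) := rfl

theorem mem_smul_iff (g : G) (K : F.Hyp) (w : Ω) : g • w ∈ (g • K).1 ↔ w ∈ K.1 := by
  rw [coe_smul, mem_image]
  exact ⟨fun ⟨v, hv, e⟩ => smul_left_cancel g e ▸ hv, fun h => ⟨w, h, rfl⟩⟩

theorem card_sub (Q : Finset Ω → Prop) :
    (univ.filter fun K : F.Hyp => Q K.1).card = (F.hyps.filter Q).card :=
  card_bij (fun K _ => K.1)
    (fun K hK => mem_filter.mpr ⟨Fam.mem_hyps.mpr K.2, (mem_filter.mp hK).2⟩)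
    (fun _ _ _ _ => Subtype.ext)
    fun K hK => ⟨⟨K, Fam.mem_hyps.mp (mem_filter.mp hK).1⟩,
      mem_filter.mpr ⟨mem_univ _, (mem_filter.mp hK).2⟩, rfl⟩

theorem two_add_T_le : F.T + 2 ≤ F.R := by
  have h := F.R_eq
  have hT := F.T_pos
  have h2 := Nat.mul_le_mul_right F.T F.two_le_q
  omega

theorem R_lt : F.R < Fintype.card Ω := by
  rw [F.card_eq_R]
  have := Nat.le_mul_of_pos_right F.R (show 0 < F.q by have := F.two_le_q; omega)
  omega

/-- The symmetric design of points and hyperplanes. -/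
def design : AxialDesign.Design Ω F.Hyp where
  blk x := univ.filter fun K => x ∈ K.1
  k := F.R
  l := F.T
  card_eq := by rw [← F.card_hyps, Fintype.card_subtype, hyps]
  card_blk x := by
    convert F.card_thru x using 1
    convert F.card_sub (fun K => x ∈ K) using 3
    ext K; simp [thru]
  card_inter x x' h := by
    rw [← filter_and]
    convert F.card_thru2 h using 1
    convert F.card_sub (fun K => x ∈ K ∧ x' ∈ K) using 3
  card_thru K := by
    refine Eq.trans ?_ K.2.card
    congr 1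
    ext w; simp
  card_thru2 K K' h := by
    refine Eq.trans ?_ (F.card_inter K.2 K'.2 fun e => h (Subtype.ext e))
    congr 1
    ext w; simp
  l_pos := F.T_pos
  two_add_le := F.two_add_T_le
  k_lt := by
    rw [Fintype.card_subtype, ← hyps, F.card_hyps]
    exact F.R_lt

theorem mem_blk {x : Ω} {K : F.Hyp} : K ∈ F.design.blk x ↔ x ∈ K.1 := by simp [design]

theorem isAuto (g : G) : F.design.IsAuto (toPerm g) (toPerm g) := fun x K => by
  rw [mem_blk, mem_blk]; exact F.mem_smul_iff g K x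

theorem hyp_faithful (g : G) (h : ∀ K : F.Hyp, g • K = K) : g = 1 := by
  refine F.faithful g fun w => F.design.blk_injective (Finset.ext fun K => ?_)
  rw [mem_blk, mem_blk]
  conv_lhs => rw [← h K]
  exact F.mem_smul_iff g K w

theorem fixes_hyp {x : Ω} {m : G} (hm : m ∈ F.M x) {K : F.Hyp} (hx : x ∈ K.1) : m • K = K := by
  obtain ⟨c, hc, hcK⟩ := F.arises K.2 hx
  refine Subtype.ext ?_
  rw [coe_smul]
  refine eq_of_subset_of_card_le (fun w hw => ?_)
    (by rw [card_image_of_injective _ (MulAction.injective m)])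
  obtain ⟨v, hv, rfl⟩ := mem_image.mp hw
  rw [← hcK, mem_Fix] at hv ⊢
  rw [← mul_smul, F.comm x c (F.mem_P.mp hc).2 m hm, mul_smul, hv]

theorem eq_one_of_fixes {x : Ω} {m : G} (hm : m ∈ F.M x) {K : F.Hyp} (hx : x ∉ K.1)
    (h : m • K = K) : m = 1 := by
  by_contra h1
  have hfix : ∀ w ∈ K.1, m • w = w := by
    intro w hw
    by_contra hne
    have hmw : m • w ∈ K.1 := by
      rw [← h, coe_smul]; exact mem_image_of_mem _ hw
    have hxw : x ≠ w := fun e => hx (e ▸ hw)
    have hl := F.smul_mem_line hm (F.right_mem_line x w)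
    have e := F.line_eq hxw (F.right_mem_line x w) hl (Ne.symm hne)
    exact hx (K.2.isSub w hw _ hmw (Ne.symm hne) (e.symm ▸ F.left_mem_line x w))
  have hP : m ∈ F.P x := F.mem_P.mpr ⟨h1, hm⟩
  have hsub : insert x K.1 ⊆ Fix m := fun w hw => mem_Fix.mpr <| by
    rcases mem_insert.mp hw with rfl | hw
    · exact F.fix w m hm
    · exact hfix w hw
  have := card_le_card hsub
  rw [card_insert_of_notMem hx, K.2.card, F.card_Fix hP] at this
  omega

theorem stab_trans (x : Ω) (K K' : F.Hyp) (hK : x ∈ K.1) (hK' : x ∈ K'.1) :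
    ∃ g : G, g • x = x ∧ g • K = K' := by
  by_contra hcon
  push Not at hcon
  set S := stabilizer G x
  obtain ⟨y, hy⟩ : ∃ y, x ≠ y := by
    by_contra h
    push Not at h
    exact F.px_ne_py ((h _).symm.trans (h _))
  have h2 : Fintype.card (orbitRel.Quotient ↥S Ω) ≤ 2 := by
    rw [← card_univ]
    refine (card_le_card (t := ({⟦x⟧, ⟦y⟧} : Finset (orbitRel.Quotient ↥S Ω)))
      fun c _ => ?_).trans (card_le_two)
    obtain ⟨w, rfl⟩ := Quotient.exists_rep c
    by_cases hw : w = x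
    · rw [hw]; exact mem_insert_self _ _
    · refine mem_insert_of_mem (mem_singleton.mpr (Quotient.sound ?_))
      obtain ⟨g, hg, hgy⟩ := is_two_pretransitive_iff.mp F.two hy (Ne.symm hw)
      exact ⟨⟨g, hg⟩, hgy⟩
  have e : Fintype.card (orbitRel.Quotient ↥S F.Hyp) = Fintype.card (orbitRel.Quotient ↥S Ω) := by
    have e1 := sum_card_fixedBy_eq_card_orbits_mul_card_group ↥S F.Hyp
    have e2 := sum_card_fixedBy_eq_card_orbits_mul_card_group ↥S Ω
    have e3 : ∀ g : ↥S, Fintype.card (fixedBy F.Hyp g) = Fintype.card (fixedBy Ω g) := fun g => by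
      rw [Fintype.card_subtype, Fintype.card_subtype]
      exact (F.isAuto (g : G)).fixed_card_eq.symm
    rw [sum_congr rfl fun g _ => e3 g, e2] at e1
    exact (Nat.eq_of_mul_eq_mul_right Fintype.card_pos e1).symm
  obtain ⟨L, hL⟩ : ∃ L : F.Hyp, x ∉ L.1 := by
    by_contra h
    push Not at h
    have h1 := F.card_thru x
    rw [show F.thru x = F.hyps from filter_true_of_mem fun M hM => h ⟨M, Fam.mem_hyps.mp hM⟩,
      F.card_hyps] at h1
    exact absurd h1 (by have := F.R_lt; omega)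
  have key : ∀ (g : ↥S) (M : F.Hyp), x ∈ (g • M).1 ↔ x ∈ M.1 := fun g M => by
    conv_lhs => rw [← (g.2 : (g : G) • x = x)]
    exact F.mem_smul_iff (g : G) M x
  have n1 : (⟦K⟧ : orbitRel.Quotient ↥S F.Hyp) ≠ ⟦K'⟧ := fun he => by
    obtain ⟨g, hg⟩ : K' ∈ orbit ↥S K := Quotient.exact he.symm
    exact hcon g g.2 hg
  have n2 : ∀ M : F.Hyp, x ∈ M.1 → (⟦L⟧ : orbitRel.Quotient ↥S F.Hyp) ≠ ⟦M⟧ := fun M hM he => by
    obtain ⟨g, rfl⟩ : L ∈ orbit ↥S M := Quotient.exact he
    exact hL ((key g M).mpr hM)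
  have h3 := card_le_univ ({⟦L⟧, ⟦K⟧, ⟦K'⟧} : Finset (orbitRel.Quotient ↥S F.Hyp))
  rw [card_insert_of_notMem (by simp [n2 K hK, n2 K' hK']), card_insert_of_notMem (by simp [n1]),
    card_singleton] at h3
  omega

/-- The axial system of the design. -/
def axialSys : AxialDesign.AxialSys G Ω F.Hyp where
  D := F.design
  inv g x K := by rw [mem_blk, mem_blk]; exact F.mem_smul_iff g K x
  faithful := F.hyp_faithful
  U := F.M
  conj := F.conj
  axis x m hm K hK := F.fixes_hyp hm (F.mem_blk.mp hK)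
  free x m hm K hK h := F.eq_one_of_fixes hm (fun e => hK (F.mem_blk.mpr e)) h
  move x c hc := F.exists_move hc.symm
  trans x K hK K' hK' := F.stab_trans x K K' (F.mem_blk.mp hK) (F.mem_blk.mp hK')

include F in
theorem exists_psl : ∃ (m : ℕ) (K : Type) (_ : Field K) (_ : Fintype K), 2 ≤ m ∧
    ∃ N : Subgroup G, N.Normal ∧
      Nonempty (↥N ≃* Matrix.ProjectiveSpecialLinearGroup (Fin (m + 1)) K) ∧
      Subgroup.centralizer (N : Set G) = ⊥ := by
  obtain ⟨m, K, hf, hfin, hm, -, h⟩ := F.axialSys.recognition F.px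
  exact ⟨m, K, hf, hfin, hm, h⟩

end Fam

end

theorem exists_fam_of_normal {G Ω : Type*} [Group G] [MulAction G Ω] [Finite G] (h2 : IsMultiplyPretransitive G Ω 2) [FaithfulSMul G Ω]
    (x₀ : Ω) (N : Subgroup G) (hle : N ≤ stabilizer G x₀)
    (hnorm : ∀ g ∈ stabilizer G x₀, ∀ n ∈ N, g * n * g⁻¹ ∈ N)
    (hab : ∀ u ∈ N, ∀ v ∈ N, u * v = v * u)
    (hnsr : ∃ n ∈ N, n ≠ 1 ∧ ∃ y, y ≠ x₀ ∧ n • y = y) : Nonempty (Fam G Ω) := by
  haveI : IsPretransitive G Ω := isPretransitive_of_is_two_pretransitive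
  obtain ⟨n, hn, hn1, y, hy, hny⟩ := hnsr
  set r := (orderOf n).minFac
  have hr : r.Prime := Nat.minFac_prime fun h => hn1 (orderOf_eq_one_iff.mp h)
  set z := n ^ (orderOf n / r) with hz
  have hzr : z ^ r = 1 := by
    rw [hz, ← pow_mul, Nat.div_mul_cancel (Nat.minFac_dvd _), pow_orderOf_eq_one]
  have hz1 : z ≠ 1 := by
    have hpos : 0 < orderOf n / r :=
      Nat.div_pos (Nat.minFac_le (orderOf_pos n)) hr.pos
    exact pow_ne_one_of_lt_orderOf hpos.ne' (Nat.div_lt_self (orderOf_pos n) hr.one_lt)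
  have hcomm : ∀ u ∈ N, ∀ v ∈ N, Commute u v := hab
  let M : Ω → Subgroup G := fun w =>
    { carrier := {g | ∀ h : G, h • w = x₀ → h * g * h⁻¹ ∈ N ∧ (h * g * h⁻¹) ^ r = 1}
      one_mem' := fun h _ => by simp
      mul_mem' := fun {g g'} hg hg' h hh => by
        obtain ⟨h1, h1'⟩ := hg h hh
        obtain ⟨h2, h2'⟩ := hg' h hh
        rw [show h * (g * g') * h⁻¹ = (h * g * h⁻¹) * (h * g' * h⁻¹) by group]
        exact ⟨mul_mem h1 h2, by rw [(hcomm _ h1 _ h2).mul_pow, h1', h2', one_mul]⟩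
      inv_mem' := fun {g} hg h hh => by
        obtain ⟨h1, h1'⟩ := hg h hh
        rw [show h * g⁻¹ * h⁻¹ = (h * g * h⁻¹)⁻¹ by group]
        exact ⟨inv_mem h1, by rw [inv_pow, h1', inv_one]⟩ }
  have hto : ∀ w, ∃ h : G, h • w = x₀ := fun w => exists_smul_eq G w x₀
  refine ⟨{
    two := h2
    faithful := fun g hg => eq_of_smul_eq_smul (α := Ω) fun w => by rw [hg, one_smul]
    M := M
    fix := fun w u hu => ?_
    conj := fun g w u hu => ?_
    comm := fun w u hu v hv => ?_
    r := r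
    prime := hr
    pow := fun w u hu => ?_
    nsr := ⟨x₀, y, hy.symm, z, ?_, hz1, ?_⟩ }⟩
  · obtain ⟨h, hh⟩ := hto w
    have h1 : (h * u * h⁻¹) • x₀ = x₀ := hle (hu h hh).1
    rw [← hh, mul_smul, mul_smul, inv_smul_smul] at h1
    exact smul_left_cancel h h1
  · intro h hh
    have := hu (h * g) (by rw [mul_smul]; exact hh)
    rwa [show h * (g * u * g⁻¹) * h⁻¹ = h * g * u * (h * g)⁻¹ by group]
  · obtain ⟨h, hh⟩ := hto w
    have e := hab _ (hu h hh).1 _ (hv h hh).1
    exact (MulAut.conj h).injective (by simpa using e)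
  · obtain ⟨h, hh⟩ := hto w
    exact (MulAut.conj h).injective (by rw [map_pow, map_one]; simpa using (hu h hh).2)
  · intro h hh
    have h1 : h * z * h⁻¹ ∈ N := hnorm h hh z (pow_mem hn _)
    refine ⟨h1, ?_⟩
    rw [conj_pow, hzr, mul_one, mul_inv_cancel]
  · exact (pow_mem (show n ∈ stabilizer G y from hny) _ : z ∈ stabilizer G y)

end Cfsg.Agent.ONanLines
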